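import Cfsg.Agent.J4Cert.Mat
import Cfsg.Agent.J4Cert.SylDef
import Cfsg.Agent.J4Eleven.Checks
import Cfsg.Agent.J4Maximal.Data11.Tables
import Cfsg.Agent.J4Maximal.Data11.Plan

/-!
The finite checks for the prime 11: an element of order 5 of the normaliser of a Sylow 11-subgroup.
-/

set_option autoImplicit false
set_option maxRecDepth 20000
set_option Elab.async false

namespace Cfsg.Lib.J4Maximal.P11

open Cfsg.Lib.J4Cert

/-- The matrices by index: those of the normaliser of the Sylow subgroup and further ones. -/
def nd (k : ℕ) : List ℕ := bif Nat.blt k 548 then J4Eleven.em k else ndTab.get (k - 548)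

/-- The matrix of a pool element. -/
def pm (k : ℕ) : List ℕ := nd (pnode.getD k 0)

/-- The table of a pool element. -/
def ptab (k : ℕ) : List ℕ := ptabs.getD k []

/-- A word applied to a vector. -/
def act : List ℕ → ℕ → ℕ
  | [], z => z
  | k :: w, z => act w (vt (ptab k) z)

/-- A word applied repeatedly. -/
def rep (w : List ℕ) : ℕ → ℕ → ℕ
  | 0, z => z
  | n + 1, z => rep w n (act w z)

/-- The keys increase from a lower bound and stay below an upper bound. -/
def incr {α : Type} (key : α → ℕ) (hi : ℕ) : ℕ → List α → Bool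
  | lo, [] => Nat.ble lo hi
  | lo, a :: l => (fun k => Nat.ble lo k && incr key hi (k + 1) l) (key a)

/-- The word of an entry. -/
def entW (e : ℕ × ℕ × ℕ) : List ℕ := lefW.getD e.1 [] ++ repW.getD e.2.1 [] ++ rigW.getD e.2.2 []

/-- The key of an entry. -/
def key (e : ℕ × ℕ × ℕ) : ℕ := act (entW e) f0

/-- The letters of the normaliser of the Sylow subgroup that fix the element of order 5. -/
def small (w : List ℕ) : Bool := w.all fun k => Nat.ble 2 k && Nat.blt k 5

/-- The word of a certificate. -/
def crtW (r : ℕ) (w : List ℕ) : List ℕ := w.flatMap fun k => bif Nat.beq k 8 then repW.getD r [] else [k]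

/-- A certificate is correct. -/
def crtOK (q r : ℕ) (c : List ℕ × ℕ) : Bool :=
  c.1.all (fun k => Nat.blt k 5 || Nat.beq k 8) && decide (c.2 < 2 ^ 112) &&
    (rep (crtW r c.1) q c.2 == c.2) && (act (crtW r c.1) c.2 != c.2)

/-- The tables belong to the nodes. -/
def poolOK : Bool :=
  (List.range 8).all fun k => decide (pnode.getD k 0 < 926) && leq (tabs4 (pm k)) (ptab k)

/-- The exponents with which the pool elements act on the element of order 5. -/
def fiveExp : List (ℕ × ℕ) := [(2, 1), (3, 1), (4, 1), (5, 1), (6, 4), (7, 2)]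

/-- The pool elements normalise the cyclic group of order 5, and are the known ones. -/
def baseOK : Bool :=
  leq (pm 0) J4Eleven.mU && leq (pm 1) J4Eleven.mX && leq (pm 3) (J4Eleven.mG 1) &&
    leq (pm 4) (J4Eleven.mG 2) && leq (pm 2) (mB (J4Eleven.mG 0) (J4Eleven.mEl (0, 0, 7))) &&
    fiveExp.all fun e => leq (mB (pm e.1) (mPow (pm 4) e.2)) (mB (pm 4) (pm e.1))

/-- All entries. -/
def ents : List (ℕ × ℕ × ℕ) := ent0 ++ ent1 ++ ent2 ++ ent3

/-- The shapes of the lists. -/
def shapeOK : Bool :=
  decide (f0 < 2 ^ 112 ∧ w0 < 2 ^ 112) && fixW.length == 30 && fixW.all small &&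
    fixW.all (fun w => act w f0 == f0) && lefW.all small && rigW.all small &&
    repW.all (fun w => w.all fun k => Nat.ble 2 k && Nat.blt k 8) && repW.getD 0 [] == [] &&
    repW.length == 10 && ents.length == 896 &&
    ents.all (fun e => decide (e.1 < lefW.length ∧ e.2.1 < 10 ∧ e.2.2 < rigW.length)) &&
    ((ents.filter fun e => e.2.1 == 0).length == 8) &&
    (List.range 10).all fun r => r == 0 || crt.any fun c => c.1 == r

theorem nd_low : ∀ l < 4, nd l = letM l := by decide +kernel
theorem prog0_ok : progOK nd 548 ndProg0 = true := by decide +kernel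
theorem prog1_ok : progOK nd 628 ndProg1 = true := by decide +kernel
theorem prog2_ok : progOK nd 708 ndProg2 = true := by decide +kernel
theorem prog3_ok : progOK nd 788 ndProg3 = true := by decide +kernel
theorem prog4_ok : progOK nd 868 ndProg4 = true := by decide +kernel
theorem pool_ok : poolOK = true := by decide +kernel
theorem base_ok : baseOK = true := by decide +kernel
theorem shape_ok : shapeOK = true := by decide +kernel
theorem fix_keys : incr (fun w => act w w0) (2 ^ 112) 0 fixW = true := by decide +kernel
theorem key_ok0 : incr key (bnd.getD 1 0) (bnd.getD 0 0) ent0 = true := by decide +kernel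
theorem key_ok1 : incr key (bnd.getD 2 0) (bnd.getD 1 0) ent1 = true := by decide +kernel
theorem key_ok2 : incr key (bnd.getD 3 0) (bnd.getD 2 0) ent2 = true := by decide +kernel
theorem key_ok3 : incr key (bnd.getD 4 0) (bnd.getD 3 0) ent3 = true := by decide +kernel
theorem crt_ok : (crt.all fun c => crtOK 29 c.1 c.2.1 && crtOK 37 c.1 c.2.2.1 && crtOK 43 c.1 c.2.2.2) = true := by
  decide +kernel

end Cfsg.Lib.J4Maximal.P11
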