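import Cfsg.Agent.J4Maximal.P11.Checks
import Cfsg.Agent.J4Eleven.Main

/-!
The elements behind the finite checks for the prime 11.
-/

set_option autoImplicit false
set_option maxRecDepth 8000
set_option synthInstance.maxSize 4000
set_option linter.style.haveILetI false

namespace Cfsg.Lib.J4Maximal.P11

open Cfsg Cfsg.Lib.J4Cert Cfsg.Lib.J4Eleven Subgroup

attribute [local irreducible] mB mPow nd pnode ptabs ptab tabs4 vt leq pm J4Eleven.em mU mX mG mEl ndTab

theorem nd_base {j : ℕ} (h : j < 548) : nd j = J4Eleven.em j := by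
  unfold nd
  rw [show Nat.blt j 548 = true by simpa using h]
  rfl

theorem nd_mem : ∀ j < 926, ∃ g, MOK g (nd j) := by
  have h0 : ∀ j < 548, ∃ g, MOK g (nd j) := fun j hj => nd_base hj ▸ em_mem j hj
  have h1 : ∀ j < 628, ∃ g, MOK g (nd j) := progOK_sound nd_low ndProg0 548 prog0_ok h0
  have h2 : ∀ j < 708, ∃ g, MOK g (nd j) := progOK_sound nd_low ndProg1 628 prog1_ok h1
  have h3 : ∀ j < 788, ∃ g, MOK g (nd j) := progOK_sound nd_low ndProg2 708 prog2_ok h2
  have h4 : ∀ j < 868, ∃ g, MOK g (nd j) := progOK_sound nd_low ndProg3 788 prog3_ok h3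
  have h5 : ∀ j < 926, ∃ g, MOK g (nd j) := progOK_sound nd_low ndProg4 868 prog4_ok h4
  exact h5

/-- The element of a node. -/
noncomputable def nel (j : ℕ) : Spor.J4 := if h : j < 926 then (nd_mem j h).choose else 1

/-- The element of a pool entry. -/
noncomputable def pe (k : ℕ) : Spor.J4 := nel (pnode.getD k 0)

theorem pool_lt {k : ℕ} (hk : k < 8) : pnode.getD k 0 < 926 ∧ tabs4 (pm k) = ptab k := by
  have h := pool_ok
  simp only [poolOK, List.all_eq_true, List.mem_range, Bool.and_eq_true, decide_eq_true_eq] at h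
  exact ⟨(h k hk).1, leq_eq (h k hk).2⟩

theorem pe_ok {k : ℕ} (hk : k < 8) : MOK (pe k) (pm k) := by
  unfold pe nel pm
  rw [dif_pos (pool_lt hk).1]
  exact (nd_mem _ (pool_lt hk).1).choose_spec

/-- The value of a word. -/
noncomputable def ev (l : List ℕ) : Spor.J4 := (l.map pe).prod

theorem ev_nil : ev [] = 1 := rfl

theorem ev_cons (k : ℕ) (l : List ℕ) : ev (k :: l) = pe k * ev l := List.prod_cons

theorem ev_append (l m : List ℕ) : ev (l ++ m) = ev l * ev m := by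
  rw [ev, List.map_append, List.prod_append]
  rfl

/-- The image of a vector. -/
noncomputable def img (g : Spor.J4) (z : J4Rep.Vec) : J4Rep.Vec := (rhoG g).symm z

theorem img_mul (g h : Spor.J4) (z : J4Rep.Vec) : img (g * h) z = img h (img g z) := by
  unfold img
  rw [map_mul]
  rfl

theorem img_one (z : J4Rep.Vec) : img 1 z = z := by
  unfold img
  rw [map_one]
  rfl

theorem img_pe {k : ℕ} (hk : k < 8) (z : J4Rep.Vec) : (img (pe k) z).1 = vt (ptab k) z.1 := by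
  unfold img
  have hok := (pe_ok hk).1
  simp only [okMat, Bool.and_eq_true, List.all_eq_true, decide_eq_true_eq] at hok
  rw [(pe_ok hk).2 z, ← (pool_lt hk).2, vt_eq _ _ hok.2 (by rw [Nat.eq_of_beq_eq_true hok.1])]

theorem act_eq : ∀ (l : List ℕ), (∀ k ∈ l, k < 8) → ∀ z : J4Rep.Vec, act l z.1 = (img (ev l) z).1
  | [], _, z => by rw [ev_nil, img_one]; rfl
  | k :: l, hl, z => by
    rw [ev_cons, img_mul, act, ← img_pe (hl k List.mem_cons_self) z]
    exact act_eq l (fun j hj => hl j (List.mem_cons_of_mem _ hj)) _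

theorem rep_eq (l : List ℕ) (hl : ∀ k ∈ l, k < 8) : ∀ (n : ℕ) (z : J4Rep.Vec),
    rep l n z.1 = (img (ev l ^ n) z).1
  | 0, z => by rw [pow_zero (ev l), img_one]; rfl
  | n + 1, z => by
    rw [pow_succ' (ev l) n, img_mul, rep, act_eq l hl z]
    exact rep_eq l hl n _

/-- A vector certificate for a prime dividing the order. -/
theorem dvd_order {l : List ℕ} (hl : ∀ k ∈ l, k < 8) {q z : ℕ} (hq : q.Prime) (hz : z < 2 ^ 112)
    (h1 : rep l q z = z) (h2 : act l z ≠ z) : q ∣ orderOf (ev l) := by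
  set g := ev l
  set Z : J4Rep.Vec := ⟨z, hz⟩
  have hfix : img (g ^ q) Z = Z := Subtype.ext (by rw [← rep_eq l hl q Z]; exact h1)
  have hmv : img g Z ≠ Z := fun e => h2 (by rw [show z = Z.1 from rfl, act_eq l hl Z, e])
  by_contra hd
  have hcop : q.Coprime (orderOf g) := (Nat.Prime.coprime_iff_not_dvd hq).mpr hd
  obtain ⟨m, hm⟩ := exists_pow_eq_self_of_coprime hcop
  apply hmv
  rw [← hm]
  clear hm
  induction m with
  | zero => rw [pow_zero (g ^ q), img_one]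
  | succ m ih => rw [pow_succ' (g ^ q) m, img_mul, hfix, ih]

/-- The element of order 5. -/
noncomputable def gS : Spor.J4 := pe 4

theorem pe_known : pe 0 = eU ∧ pe 1 = eX ∧ pe 3 = eG 1 ∧ gS = eG 2 ∧ pe 2 = eG 0 * hJ4.el 0 0 7 := by
  have h := base_ok
  simp only [baseOK, Bool.and_eq_true] at h
  obtain ⟨⟨⟨⟨⟨h0, h1⟩, h3⟩, h4⟩, h2⟩, -⟩ := h
  exact ⟨eq_of_leq (pe_ok (by norm_num)) eU_ok h0, eq_of_leq (pe_ok (by norm_num)) eX_ok h1,
    eq_of_leq (pe_ok (by norm_num)) (eG_ok 1) h3, eq_of_leq (pe_ok (by norm_num)) (eG_ok 2) h4,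
    eq_of_leq (pe_ok (by norm_num)) ((eG_ok 0).mul (el_ok (0, 0, 7))) h2⟩

theorem gS_order : orderOf gS = 5 := by
  haveI : Fact (Nat.Prime 5) := ⟨by norm_num⟩
  have h := five_ok
  simp only [fiveOK, Bool.and_eq_true, Bool.not_eq_true'] at h
  rw [pe_known.2.2.2.1]
  exact orderOf_eq_prime (eq_of_leq (npow_ok (eG_ok 2) 5) MOK.one h.1) (ne_one_of (eG_ok 2) h.2)

theorem pe_norm {k : ℕ} (h2 : 2 ≤ k) (h8 : k < 8) : pe k ∈ normalizer (zpowers gS : Set Spor.J4) := by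
  haveI := finite_J4
  have h := base_ok
  simp only [baseOK, Bool.and_eq_true, List.all_eq_true] at h
  obtain ⟨-, h5⟩ := h
  obtain ⟨a, ha⟩ : ∃ a, (k, a) ∈ fiveExp := by
    interval_cases k <;> simp [fiveExp]
  have e : pe k * gS ^ a = gS * pe k :=
    eq_of_leq ((pe_ok h8).mul (npow_ok (pe_ok (by norm_num)) a)) ((pe_ok (by norm_num)).mul (pe_ok h8)) (h5 _ ha)
  have hle : (zpowers gS).map (MulAut.conj (pe k)⁻¹).toMonoidHom ≤ zpowers gS := by
    rw [MonoidHom.map_zpowers, zpowers_le]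
    refine mem_zpowers_iff.mpr ⟨a, ?_⟩
    show gS ^ (a : ℤ) = (pe k)⁻¹ * gS * ((pe k)⁻¹)⁻¹
    rw [zpow_natCast, inv_inv, mul_assoc, ← e, inv_mul_cancel_left]
  have he := eq_of_le_of_card_ge hle
    (le_of_eq (card_map_of_injective (f := (MulAut.conj (pe k)⁻¹).toMonoidHom) (MulAut.conj (pe k)⁻¹).injective).symm)
  rw [← inv_mem_iff, mem_normalizer_iff]
  intro u
  refine ⟨fun hu => hle ⟨u, hu, rfl⟩, fun hu => ?_⟩
  rw [← he] at hu
  obtain ⟨t, ht, e'⟩ := hu
  rwa [← (MulAut.conj (pe k)⁻¹).injective e']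

theorem pe_NU {k : ℕ} (hk : k < 5) : pe k ∈ normalizer (hJ4.U : Set Spor.J4) := by
  obtain ⟨h0, h1, h3, h4, h2⟩ := pe_known
  have hU : ∀ x ∈ hJ4.U, x ∈ normalizer (hJ4.U : Set Spor.J4) := fun x hx => le_normalizer hx
  interval_cases k
  · rw [h0]; exact hU _ ⟨1, 0, 0, hJ4.u_eq⟩
  · rw [h1]; exact hU _ ⟨0, 1, 0, hJ4.x_eq⟩
  · rw [h2]; exact mul_mem (eG_mem 0) (hU _ ⟨0, 0, 7, rfl⟩)
  · rw [h3]; exact eG_mem 1
  · rw [show pe 4 = gS from rfl, h4]; exact eG_mem 2

theorem ev_mem {H : Subgroup Spor.J4} {l : List ℕ} (h : ∀ k ∈ l, pe k ∈ H) : ev l ∈ H :=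
  list_prod_mem (fun x hx => by obtain ⟨k, hk, rfl⟩ := List.mem_map.mp hx; exact h k hk)

end Cfsg.Lib.J4Maximal.P11
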