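import Cfsg.Agent.J4Maximal.P11.El

/-!
The normaliser of the element of order 5 in a proper subgroup containing the normaliser of a Sylow 11-subgroup.
-/

set_option autoImplicit false
set_option maxRecDepth 8000
set_option synthInstance.maxSize 4000
set_option linter.style.haveILetI false

namespace Cfsg.Lib.J4Maximal.P11

open Cfsg Cfsg.Lib.J4Cert Cfsg.Lib.J4Eleven Subgroup

attribute [local irreducible] mB mPow nd pnode ptabs ptab tabs4 vt leq pm key f0 w0 fixW lefW rigW repW ent0 ent1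
  ent2 ent3 crt bnd

theorem incr_bounds {α : Type} (key : α → ℕ) : ∀ (l : List α) (lo hi : ℕ), incr key hi lo l = true →
    lo ≤ hi ∧ (∀ a ∈ l, lo ≤ key a ∧ key a < hi) ∧ l.Pairwise fun a b => key a < key b
  | [], lo, hi, h => ⟨Nat.le_of_ble_eq_true h, by simp, List.Pairwise.nil⟩
  | a :: l, lo, hi, h => by
    simp only [incr, Bool.and_eq_true, Nat.ble_eq] at h
    obtain ⟨h1, h2, h3⟩ := incr_bounds key l _ hi h.2
    refine ⟨by omega, fun b hb => ?_, List.pairwise_cons.mpr ⟨fun b hb => by have := (h2 b hb).1; omega, h3⟩⟩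
    rcases List.mem_cons.mp hb with rfl | hb
    · exact ⟨h.1, by omega⟩
    · have := h2 b hb; exact ⟨by omega, this.2⟩

theorem pairwise_inj {α : Type} {key : α → ℕ} {l : List α} (h : l.Pairwise fun a b => key a < key b) {a b : α}
    (ha : a ∈ l) (hb : b ∈ l) (e : key a = key b) : a = b := by
  obtain ⟨i, rfl⟩ := List.mem_iff_get.mp ha
  obtain ⟨j, rfl⟩ := List.mem_iff_get.mp hb
  rw [List.pairwise_iff_get] at h
  rcases lt_trichotomy i j with hl | hl | hl
  · exact absurd e (h i j hl).ne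
  · rw [hl]
  · exact absurd e.symm (h j i hl).ne

theorem ents_pairwise : ents.Pairwise fun a b => key a < key b := by
  have h0 := incr_bounds key _ _ _ key_ok0
  have h1 := incr_bounds key _ _ _ key_ok1
  have h2 := incr_bounds key _ _ _ key_ok2
  have h3 := incr_bounds key _ _ _ key_ok3
  have step : ∀ {a b : List (ℕ × ℕ × ℕ)} {lo m hi : ℕ},
      (lo ≤ m ∧ (∀ x ∈ a, lo ≤ key x ∧ key x < m) ∧ a.Pairwise fun x y => key x < key y) →
      (m ≤ hi ∧ (∀ x ∈ b, m ≤ key x ∧ key x < hi) ∧ b.Pairwise fun x y => key x < key y) →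
      (lo ≤ hi ∧ (∀ x ∈ a ++ b, lo ≤ key x ∧ key x < hi) ∧ (a ++ b).Pairwise fun x y => key x < key y) := by
    intro a b lo m hi ha hb
    refine ⟨ha.1.trans hb.1, fun x hx => ?_, List.pairwise_append.mpr ⟨ha.2.2, hb.2.2, fun x hx y hy => ?_⟩⟩
    · rcases List.mem_append.mp hx with hx | hx
      · exact ⟨(ha.2.1 x hx).1, lt_of_lt_of_le (ha.2.1 x hx).2 hb.1⟩
      · exact ⟨ha.1.trans (hb.2.1 x hx).1, (hb.2.1 x hx).2⟩
    · exact lt_of_lt_of_le (ha.2.1 x hx).2 (hb.2.1 y hy).1
  exact (step (step (step h0 h1) h2) h3).2.2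

theorem shapes : f0 < 2 ^ 112 ∧ w0 < 2 ^ 112 ∧ fixW.length = 30 ∧
    (∀ w ∈ fixW, (∀ k ∈ w, 2 ≤ k ∧ k < 5) ∧ act w f0 = f0) ∧
    (∀ i, ∀ k ∈ lefW.getD i [], 2 ≤ k ∧ k < 5) ∧ (∀ i, ∀ k ∈ rigW.getD i [], 2 ≤ k ∧ k < 5) ∧
    (∀ i, ∀ k ∈ repW.getD i [], 2 ≤ k ∧ k < 8) ∧ repW.getD 0 [] = [] ∧ ents.length = 896 ∧
    (∀ e ∈ ents, e.2.1 < 10) ∧ (ents.filter fun e => e.2.1 == 0).length = 8 ∧
    ∀ r < 10, r = 0 ∨ ∃ c ∈ crt, c.1 = r := by
  have h := shape_ok
  simp only [shapeOK, Bool.and_eq_true, decide_eq_true_eq, List.all_eq_true, beq_iff_eq, Bool.or_eq_true,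
    List.mem_range, List.any_eq_true, small, Nat.ble_eq, Nat.blt_eq] at h
  obtain ⟨⟨⟨⟨⟨⟨⟨⟨⟨⟨⟨⟨⟨hf, hw⟩, hl⟩, hfs⟩, hff⟩, hls⟩, hrs⟩, hps⟩, hp0⟩, -⟩, hlen⟩, hb⟩, hz⟩, hc⟩ := h
  have getD_all : ∀ {L : List (List ℕ)} {p : ℕ → Prop}, (∀ w ∈ L, ∀ k ∈ w, p k) → ∀ i, ∀ k ∈ L.getD i [], p k := by
    intro L p hL i k hk
    by_cases hi : i < L.length
    · rw [List.getD_eq_getElem _ _ hi] at hk
      exact hL _ (List.getElem_mem hi) k hk
    · rw [List.getD_eq_default _ _ (Nat.le_of_not_lt hi)] at hk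
      simp at hk
  exact ⟨hf, hw, hl, fun w hw => ⟨hfs w hw, hff w hw⟩, getD_all hls, getD_all hrs, getD_all hps, hp0, hlen,
    fun e he => (hb e he).2.1, hz, fun r hr => hc r hr⟩

theorem lt_of_small {k : ℕ} (h : 2 ≤ k ∧ k < 5) : k < 8 := by omega

theorem entW_lt (e : ℕ × ℕ × ℕ) : ∀ k ∈ entW e, 2 ≤ k ∧ k < 8 := by
  obtain ⟨-, -, -, -, hl, hr, hp, -⟩ := shapes
  intro k hk
  simp only [entW, List.mem_append] at hk
  rcases hk with (hk | hk) | hk
  · exact ⟨(hl _ k hk).1, lt_of_small (hl _ k hk)⟩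
  · exact hp _ k hk
  · exact ⟨(hr _ k hk).1, lt_of_small (hr _ k hk)⟩

/-- The fixed test vector. -/
def F : J4Rep.Vec := ⟨f0, shapes.1⟩

theorem img_fix {w : List ℕ} (hw : w ∈ fixW) : img (ev w) F = F := by
  obtain ⟨h1, h2⟩ := shapes.2.2.2.1 w hw
  exact Subtype.ext (by rw [← act_eq w (fun k hk => lt_of_small (h1 k hk)) F]; exact h2)

theorem prod_inj {w w' : List ℕ} (hw : w ∈ fixW) (hw' : w' ∈ fixW) {e e' : ℕ × ℕ × ℕ} (he : e ∈ ents)
    (he' : e' ∈ ents) (h : ev w * ev (entW e) = ev w' * ev (entW e')) : w = w' ∧ e = e' := by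
  have hk : key e = key e' := by
    have hkey : ∀ x, key x = (img (ev (entW x)) F).1 := fun x => by
      unfold key
      exact act_eq (entW x) (fun k hk => (entW_lt x k hk).2) F
    have := congrArg (fun g => img g F) h
    simp only [img_mul, img_fix hw, img_fix hw'] at this
    rw [hkey, hkey, this]
  obtain rfl := pairwise_inj ents_pairwise he he' hk
  refine ⟨pairwise_inj (incr_bounds _ _ _ _ fix_keys).2.2 hw hw' ?_, rfl⟩
  let W : J4Rep.Vec := ⟨w0, shapes.2.1⟩
  show act w W.1 = act w' W.1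
  rw [act_eq w (fun k hk => lt_of_small ((shapes.2.2.2.1 w hw).1 k hk)) W,
    act_eq w' (fun k hk => lt_of_small ((shapes.2.2.2.1 w' hw').1 k hk)) W, mul_right_cancel h]

theorem inf_five (hN : Nat.card (normalizer (zpowers gS : Set Spor.J4)) = 26880) {M : Subgroup Spor.J4}
    (hle : normalizer (hJ4.U : Set Spor.J4) ≤ M)
    (hbig : ¬ (29 ∣ Nat.card M ∧ 37 ∣ Nat.card M ∧ 43 ∣ Nat.card M)) :
    Nat.card ↥(M ⊓ normalizer (zpowers gS : Set Spor.J4)) = 240 := by
  classical
  haveI := finite_J4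
  obtain ⟨-, -, hfl, hfs, hl, hr, hp, hp0, hlen, hb, hz, hc⟩ := shapes
  set NQ := normalizer (zpowers gS : Set Spor.J4)
  have small_mem : ∀ {l : List ℕ}, (∀ k ∈ l, 2 ≤ k ∧ k < 5) → ev l ∈ M ∧ ev l ∈ NQ := fun h =>
    ⟨ev_mem fun k hk => hle (pe_NU (h k hk).2), ev_mem fun k hk => pe_norm (h k hk).1 (lt_of_small (h k hk))⟩
  have hentN : ∀ e, ev (entW e) ∈ NQ := fun e => ev_mem fun k hk => pe_norm (entW_lt e k hk).1 (entW_lt e k hk).2
  have hfixm : ∀ i : Fin fixW.length, ev (fixW.get i) ∈ M ∧ ev (fixW.get i) ∈ NQ := fun i =>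
    small_mem (hfs _ (List.get_mem _ _)).1
  have hnd : ents.Nodup := ents_pairwise.imp fun hlt he => hlt.ne (congrArg key he)
  have hndf : fixW.Nodup :=
    (incr_bounds _ _ _ _ fix_keys).2.2.imp fun hlt he => hlt.ne (congrArg (fun w => act w w0) he)
  let Φ : Fin fixW.length × Fin ents.length → ↥NQ := fun p =>
    ⟨ev (fixW.get p.1) * ev (entW (ents.get p.2)), mul_mem (hfixm p.1).2 (hentN _)⟩
  have hinj : Function.Injective Φ := fun p p' h => by
    obtain ⟨h1, h2⟩ := prod_inj (List.get_mem _ _) (List.get_mem _ _) (List.get_mem _ _) (List.get_mem _ _)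
      (congrArg Subtype.val h)
    exact Prod.ext (hndf.get_inj_iff.mp h1) (hnd.get_inj_iff.mp h2)
  have hsurj := (Nat.bijective_iff_injective_and_card Φ).mpr ⟨hinj, by
    rw [hN, Nat.card_prod, Nat.card_fin, Nat.card_fin, hfl, hlen]⟩
  set Z := ents.filter fun e => e.2.1 == 0 with hZ
  have hZmem : ∀ e ∈ Z, e ∈ ents ∧ e.2.1 = 0 := fun e he => by simpa [hZ] using he
  have hZM : ∀ e ∈ Z, ev (entW e) ∈ M := fun e he => by
    simp only [entW, (hZmem e he).2, hp0, List.append_nil, ev_append]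
    exact mul_mem (small_mem (hl _)).1 (small_mem (hr _)).1
  let Ψ : Fin fixW.length × Fin Z.length → ↥(M ⊓ NQ) := fun p =>
    ⟨ev (fixW.get p.1) * ev (entW (Z.get p.2)),
      mul_mem (hfixm p.1).1 (hZM _ (List.get_mem _ _)), mul_mem (hfixm p.1).2 (hentN _)⟩
  have hb' : Function.Bijective Ψ := by
    refine ⟨fun p p' h => ?_, ?_⟩
    · obtain ⟨h1, h2⟩ := prod_inj (List.get_mem _ _) (List.get_mem _ _) (hZmem _ (List.get_mem _ _)).1
        (hZmem _ (List.get_mem _ _)).1 (congrArg Subtype.val h)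
      exact Prod.ext (hndf.get_inj_iff.mp h1) ((hnd.filter _).get_inj_iff.mp h2)
    · rintro ⟨y, hyM, hyN⟩
      obtain ⟨⟨i, j⟩, hp'⟩ := hsurj.2 ⟨y, hyN⟩
      have hy : ev (fixW.get i) * ev (entW (ents.get j)) = y := congrArg Subtype.val hp'
      set e := ents.get j
      have he : e ∈ ents := List.get_mem _ _
      have h0 : e.2.1 = 0 := by
        refine ((hc _ (hb e he)).resolve_right fun hex => hbig ?_)
        obtain ⟨c, hcm, hcr⟩ := hex
        have hrep : ev (repW.getD e.2.1 []) ∈ M := by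
          have hy' : ev (fixW.get i) * (ev (lefW.getD e.1 []) * ev (repW.getD e.2.1 []) *
              ev (rigW.getD e.2.2 [])) ∈ M := by
            rw [← ev_append, ← ev_append]
            exact hy.symm ▸ hyM
          exact (mul_mem_cancel_left (small_mem (hl _)).1).mp
            ((mul_mem_cancel_right (small_mem (hr _)).1).mp ((mul_mem_cancel_left (hfixm i).1).mp hy'))
        have h := crt_ok
        simp only [List.all_eq_true, Bool.and_eq_true] at h
        obtain ⟨⟨h29, h37⟩, h43⟩ := h c hcm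
        have key' : ∀ {q : ℕ} {d : List ℕ × ℕ}, q.Prime → crtOK q c.1 d = true → q ∣ Nat.card M := by
          intro q d hq hd
          simp only [crtOK, Bool.and_eq_true, List.all_eq_true, Bool.or_eq_true, decide_eq_true_eq, beq_iff_eq,
            bne_iff_ne, Nat.blt_eq, Nat.beq_eq] at hd
          obtain ⟨⟨⟨hd1, hd2⟩, hd3⟩, hd4⟩ := hd
          have hl8 : ∀ k ∈ crtW c.1 d.1, k < 8 ∧ pe k ∈ M ∨ k ∈ repW.getD c.1 [] := by
            intro k hk
            simp only [crtW, List.mem_flatMap] at hk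
            obtain ⟨a, ha, hka⟩ := hk
            by_cases h8 : a = 8
            · subst h8
              exact Or.inr hka
            · have hb8 : Nat.beq a 8 = false := by
                rw [← Bool.not_eq_true, Nat.beq_eq]; exact h8
              rw [hb8, cond_false, List.mem_singleton] at hka
              subst hka
              have ha5 : k < 5 := (hd1 k ha).resolve_right h8
              exact Or.inl ⟨by omega, hle (pe_NU ha5)⟩
          have hlt : ∀ k ∈ crtW c.1 d.1, k < 8 := fun k hk =>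
            (hl8 k hk).elim And.left fun h => (hp _ k h).2
          have hmem : ev (crtW c.1 d.1) ∈ M := by
            clear hlt hl8 hd3 hd4
            rw [crtW]
            revert hd1
            generalize d.1 = w
            intro hw
            induction w with
            | nil => exact ev_nil ▸ one_mem M
            | cons a w ih =>
              rw [List.flatMap_cons, ev_append]
              refine mul_mem ?_ (ih fun k hk => hw k (List.mem_cons_of_mem _ hk))
              by_cases h8 : a = 8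
              · subst h8
                exact hcr ▸ hrep
              · have hb8 : Nat.beq a 8 = false := by
                  rw [← Bool.not_eq_true, Nat.beq_eq]; exact h8
                rw [hb8, cond_false, ev_cons, ev_nil, mul_one]
                exact hle (pe_NU ((hw a List.mem_cons_self).resolve_right h8))
          exact (dvd_order hlt hq hd2 hd3 hd4).trans (M.orderOf_dvd_natCard hmem)
        exact ⟨key' (by norm_num) h29, key' (by norm_num) h37, key' (by norm_num) h43⟩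
      have heZ : e ∈ Z := by simp [hZ, he, h0]
      obtain ⟨l, hl'⟩ := List.mem_iff_get.mp heZ
      exact ⟨(i, l), Subtype.ext (by show ev (fixW.get i) * ev (entW (Z.get l)) = y; rw [hl']; exact hy)⟩
  rw [← Nat.card_eq_of_bijective Ψ hb', Nat.card_prod, Nat.card_fin, Nat.card_fin, hfl, hz]

end Cfsg.Lib.J4Maximal.P11
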